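import Groth.Agent.H26ModPair.Basic
import Mathlib.AlgebraicGeometry.Limits

/-! Ideal sheaves on disjoint unions. -/

set_option autoImplicit false

universe v u

open CategoryTheory Limits AlgebraicGeometry TopologicalSpace

namespace Groth.Agent.H26ModPair

variable {X : Scheme.{u}}

lemma exists_affine_image (𝒰 : X.OpenCover) (x : X) :
    ∃ (i : 𝒰.I₀) (V : (𝒰.X i).affineOpens), x ∈ (𝒰.f i) ''ᵁ V.1 := by
  obtain ⟨i, y, rfl⟩ := 𝒰.exists_eq x
  obtain ⟨V, hV, hy, -⟩ := exists_isAffineOpen_mem_and_subset (X := 𝒰.X i) (U := ⊤) (x := y) trivial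
  exact ⟨i, ⟨V, hV⟩, y, hy, rfl⟩

lemma eq_of_comap_openCover (𝒰 : X.OpenCover) {I J : X.IdealSheafData}
    (h : ∀ i, I.comap (𝒰.f i) = J.comap (𝒰.f i)) : I = J :=
  H29Blow.ext_of_forall_exists fun x => by
    obtain ⟨i, V, hx⟩ := exists_affine_image 𝒰 x
    refine ⟨⟨_, V.2.image_of_isOpenImmersion (𝒰.f i)⟩, hx, ?_⟩
    have := congrArg (fun K => K.ideal V) (h i)
    simp only [Scheme.IdealSheafData.ideal_comap_of_isOpenImmersion] at this
    exact Ideal.comap_injective_of_surjective _ (ConcreteCategory.bijective_of_isIso ((𝒰.f i).appIso V).inv).2 this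

lemma le_of_comap_openCover (𝒰 : X.OpenCover) {I J : X.IdealSheafData}
    (h : ∀ i, I.comap (𝒰.f i) ≤ J.comap (𝒰.f i)) : I ≤ J :=
  sup_eq_right.1 (eq_of_comap_openCover 𝒰 fun i => by
    rw [Scheme.IdealSheafData.comap_sup, sup_eq_right.2 (h i)])

lemma isEff_of_openCover (𝒰 : X.OpenCover) {I : X.IdealSheafData}
    (h : ∀ i, BlowUp.IsEffCartierIdeal (I.comap (𝒰.f i))) : BlowUp.IsEffCartierIdeal I := fun x => by
  obtain ⟨i, y, rfl⟩ := 𝒰.exists_eq x
  obtain ⟨V, hy, g, hg, hV⟩ := h i y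
  let e := ((𝒰.f i).appIso V.1).commRingCatIsoToRingEquiv
  refine ⟨⟨_, V.2.image_of_isOpenImmersion (𝒰.f i)⟩, ⟨y, hy, rfl⟩, e.symm g, ?_, ?_⟩
  · rw [mem_nonZeroDivisors_iff_right]
    intro s hs
    refine e.injective ((mem_nonZeroDivisors_iff_right.1 hg _ ?_).trans (map_zero e).symm)
    rw [← e.apply_symm_apply g, ← map_mul, hs, map_zero]
  · rw [Scheme.IdealSheafData.ideal_comap_of_isOpenImmersion] at hV
    refine Ideal.comap_injective_of_surjective _ (ConcreteCategory.bijective_of_isIso ((𝒰.f i).appIso V).inv).2 ?_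
    rw [hV]
    change _ = Ideal.comap e.symm (Ideal.span {e.symm g})
    rw [Ideal.comap_symm, Ideal.map_span, Set.image_singleton, e.apply_symm_apply]

section Sigma

variable {σ : Type v} [Small.{u} σ] (Y : σ → Scheme.{u}) (I : ∀ i, (Y i).IdealSheafData)

/-- The disjoint union of closed subschemes. -/
noncomputable def sigmaSub : (∐ fun i => (I i).subscheme) ⟶ ∐ Y := Limits.Sigma.map fun i => (I i).subschemeι

lemma isPullback_sigmaSub (i : σ) :
    IsPullback (I i).subschemeι (Sigma.ι (fun i => (I i).subscheme) i) (Sigma.ι Y i) (sigmaSub Y I) := by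
  refine IsOpenImmersion.isPullback _ _ _ _ (Limits.Sigma.ι_map _ _) (le_antisymm ?_ ?_)
  · rintro x ⟨y, hxy⟩
    obtain ⟨j, z, rfl⟩ := (sigmaOpenCover fun i => (I i).subscheme).exists_eq x
    change Sigma.ι Y i y = (Sigma.ι (fun i => (I i).subscheme) j ≫ sigmaSub Y I) z at hxy
    rw [sigmaSub, Limits.Sigma.ι_map] at hxy
    obtain ⟨rfl, -⟩ := Sigma.mk.injEq _ _ _ _ ▸ (sigmaι_eq_iff _ _ _ _ _).1 hxy
    exact ⟨z, rfl⟩
  · rintro _ ⟨z, rfl⟩
    refine ⟨(I i).subschemeι z, ?_⟩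
    change ((I i).subschemeι ≫ Sigma.ι Y i) z = (Sigma.ι (fun i => (I i).subscheme) i ≫ sigmaSub Y I) z
    rw [sigmaSub, Limits.Sigma.ι_map]

instance : IsClosedImmersion (sigmaSub Y I) := by
  refine IsZariskiLocalAtTarget.of_openCover (sigmaOpenCover Y) fun i => ?_
  show IsClosedImmersion (pullback.snd (sigmaSub Y I) (Sigma.ι Y i))
  rw [← MorphismProperty.cancel_left_of_respectsIso @IsClosedImmersion
    (isPullback_sigmaSub Y I i).flip.isoPullback.hom, IsPullback.isoPullback_hom_snd]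
  infer_instance

/-- The ideal of the disjoint union. -/
noncomputable def sigmaIdeal : (∐ Y).IdealSheafData := (sigmaSub Y I).ker

lemma comap_sigmaIdeal (i : σ) : (sigmaIdeal Y I).comap (Sigma.ι Y i) = I i := by
  rw [sigmaIdeal, ← Scheme.IdealSheafData.ker_fst_of_isClosedImmersion,
    ← Scheme.Hom.ker_comp_of_isIso (isPullback_sigmaSub Y I i).isoPullback.hom,
    IsPullback.isoPullback_hom_fst, Scheme.IdealSheafData.ker_subschemeι]

lemma isEff_sigmaIdeal (h : ∀ i, BlowUp.IsEffCartierIdeal (I i)) :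
    BlowUp.IsEffCartierIdeal (sigmaIdeal Y I) :=
  isEff_of_openCover (sigmaOpenCover Y) fun i => (comap_sigmaIdeal Y I i).symm ▸ h i

end Sigma

end Groth.Agent.H26ModPair
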