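import Groth.Agent.H29Blow.Basic
import Groth.Agent.H29Blow.MaxPoints
import Groth.Agent.H13Cartier.Compl
import Groth.Prelude.Def_W4c6modpairsegaMP
import Mathlib.AlgebraicGeometry.Morphisms.SchemeTheoreticallyDominant

/-! Effective Cartier ideals, their interiors and scheme-theoretic density. -/

set_option autoImplicit false

universe u

open CategoryTheory Limits AlgebraicGeometry TopologicalSpace

namespace Groth.Agent.H26ModPair

variable {X Y : Scheme.{u}}

lemma ideal_mul (I J : X.IdealSheafData) (U : X.affineOpens) :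
    (I * J).ideal U = I.ideal U * J.ideal U := rfl

/-- An ideal which contains an effective Cartier ideal and is the pullback of one is effective. -/
lemma isEff_comap_of_le {I : X.IdealSheafData} {J : Y.IdealSheafData}
    (hI : BlowUp.IsEffCartierIdeal I) (hJ : BlowUp.IsEffCartierIdeal J) (f : X ⟶ Y)
    (h : I ≤ J.comap f) : BlowUp.IsEffCartierIdeal (J.comap f) := fun x => by
  obtain ⟨U, hxU, -, g, -, hJU⟩ := H29Blow.exists_gen hJ (x := f x) (W := ⊤) trivial
  obtain ⟨V, hxV, hVU, a, ha, hIV⟩ := H29Blow.exists_gen hI (x := x) (W := f ⁻¹ᵁ U.1) hxU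
  have hcomap : (J.comap f).ideal V = Ideal.span {(f.appLE U.1 V.1 hVU).hom g} := by
    rw [H29Blow.ideal_comap J f U V hVU, hJU, Ideal.map_span, Set.image_singleton]
  refine ⟨V, hxV, _, ?_, hcomap⟩
  have hmem : a ∈ (J.comap f).ideal V := h V (hIV ▸ Ideal.mem_span_singleton_self a)
  rw [hcomap, Ideal.mem_span_singleton] at hmem
  obtain ⟨b, rfl⟩ := hmem
  exact (mul_mem_nonZeroDivisors.1 ha).1

lemma ker_app_ι {U : X.Opens} (V : X.Opens) (s : Γ(X, V)) :
    U.ι.app V s = 0 ↔
      X.presheaf.map (homOfLE (inf_le_left : V ⊓ U ≤ V)).op s = 0 := by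
  have e : U.ι ''ᵁ U.ι ⁻¹ᵁ V = V ⊓ U := by
    rw [Scheme.Hom.image_preimage_eq_opensRange_inf, Scheme.Opens.opensRange_ι, inf_comm]
  have hinj : Function.Injective (X.presheaf.map (homOfLE e.le).op) := by
    have : (X.presheaf.map (homOfLE e.le).op) = X.presheaf.map (eqToHom (congrArg Opposite.op e.symm)) := by
      congr 1
    rw [this]
    exact (ConcreteCategory.bijective_of_isIso _).1
  have hle : U.ι ''ᵁ U.ι ⁻¹ᵁ V ≤ V := e.le.trans inf_le_left
  have happ : U.ι.app V s = X.presheaf.map (homOfLE hle).op s := by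
    rw [Scheme.Opens.ι_app]; rfl
  have hcomp : X.presheaf.map (homOfLE hle).op s = X.presheaf.map (homOfLE e.le).op
      (X.presheaf.map (homOfLE (inf_le_left : V ⊓ U ≤ V)).op s) := by
    rw [← ConcreteCategory.comp_apply, ← Functor.map_comp]; rfl
  rw [happ]
  constructor
  · intro h
    refine hinj ?_
    rw [map_zero, ← hcomp]
    exact h
  · intro h
    rw [hcomp, h]
    exact map_zero _

/-- Schematically dense opens have scheme-theoretically dominant inclusion. -/
lemma dominant_of_dense {U : X.Opens} (h : CInt.IsSchematicallyDense U) :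
    IsSchemeTheoreticallyDominant U.ι := by
  refine ⟨le_bot_iff.1 fun V s hs => ?_⟩
  have hs' : U.ι.app V.1 s = 0 := Scheme.IdealSheafData.ideal_ofIdeals_le _ V hs
  rw [Scheme.IdealSheafData.ideal_bot, Pi.bot_apply, Ideal.mem_bot]
  refine h V.1 ?_
  rw [map_zero]
  exact (ker_app_ι V.1 s).1 hs'

lemma dense_of_dominant {U : X.Opens} [IsSchemeTheoreticallyDominant U.ι] [QuasiCompact U.ι] :
    CInt.IsSchematicallyDense U := fun V => by
  refine (injective_iff_map_eq_zero _).2 fun s hs => ?_
  refine U.ι.app_injective V ?_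
  rw [map_zero]
  exact (ker_app_ι V s).2 hs

lemma interior_coe (I : X.IdealSheafData) : (ModPair.interior I : Set X) = (I.support : Set X)ᶜ := rfl

lemma mem_interior {I : X.IdealSheafData} {x : X} : x ∈ ModPair.interior I ↔ x ∉ I.support := Iff.rfl

lemma preimage_interior (f : X ⟶ Y) (J : Y.IdealSheafData) :
    f ⁻¹ᵁ ModPair.interior J = ModPair.interior (J.comap f) := by
  ext x
  simp only [interior_coe, Scheme.Hom.coe_preimage, Scheme.IdealSheafData.support_comap]
  rfl

lemma interior_mul (I J : X.IdealSheafData) :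
    ModPair.interior (I * J) = ModPair.interior I ⊓ ModPair.interior J := by
  ext x
  simp only [interior_coe, Opens.coe_inf, Scheme.IdealSheafData.support_mul]
  exact Set.ext_iff.1 (Set.compl_union _ _) x

lemma isAffineHom_interior {I : X.IdealSheafData} (hI : BlowUp.IsEffCartierIdeal I) :
    IsAffineHom (ModPair.interior I).ι :=
  H13Cartier.isAffineHom_of_range_eq_compl _ I
    (fun x => by obtain ⟨U, hU, f, -, hf⟩ := hI x; exact ⟨U, hU, f, hf⟩)
    (by rw [Scheme.Opens.range_ι]; rfl)

lemma quasiCompact_interior {I : X.IdealSheafData} (hI : BlowUp.IsEffCartierIdeal I) :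
    QuasiCompact (ModPair.interior I).ι := by
  haveI := isAffineHom_interior hI
  infer_instance

lemma dense_interior {I : X.IdealSheafData} (hI : BlowUp.IsEffCartierIdeal I) :
    CInt.IsSchematicallyDense (ModPair.interior I) :=
  H13Cartier.isSchematicallyDense_compl hI

lemma dominant_interior {I : X.IdealSheafData} (hI : BlowUp.IsEffCartierIdeal I) :
    IsSchemeTheoreticallyDominant (ModPair.interior I).ι :=
  dominant_of_dense (dense_interior hI)

/-- The pullback of an effective Cartier divisor along a morphism with schematically dense preimage of the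
interior is effective. -/
lemma isEff_comap_of_dense {I : Y.IdealSheafData} (hI : BlowUp.IsEffCartierIdeal I) (f : X ⟶ Y)
    (h : CInt.IsSchematicallyDense (f ⁻¹ᵁ ModPair.interior I)) :
    BlowUp.IsEffCartierIdeal (I.comap f) := fun x => by
  obtain ⟨U, hxU, -, g, hg, hIU⟩ := H29Blow.exists_gen hI (x := f x) (W := ⊤) trivial
  obtain ⟨V, hV, hxV, hle⟩ := exists_isAffineOpen_mem_and_subset (X := X) (U := f ⁻¹ᵁ U.1) hxU
  have hcomap : (I.comap f).ideal ⟨V, hV⟩ = Ideal.span {(f.appLE U.1 V hle).hom g} := by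
    rw [H29Blow.ideal_comap I f U ⟨V, hV⟩ hle, hIU, Ideal.map_span, Set.image_singleton]
  refine ⟨⟨V, hV⟩, hxV, _, ?_, hcomap⟩
  rw [mem_nonZeroDivisors_iff_right]
  intro s hs
  refine h V ?_
  rw [map_zero]
  set b := (f.appLE U.1 V hle).hom g
  have hsub : V ⊓ f ⁻¹ᵁ ModPair.interior I ≤ X.basicOpen b := by
    intro y hy
    by_contra hb
    obtain ⟨hyV, hyI⟩ := hy
    refine hyI ?_
    have h2 := (I.comap f).coe_support_inter ⟨V, hV⟩
    rw [hcomap, Scheme.zeroLocus_span, Scheme.zeroLocus_singleton] at h2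
    have h3 := (Set.ext_iff.1 h2 y).2 ⟨hb, hyV⟩
    have h4 := h3.1
    rw [Scheme.IdealSheafData.support_comap] at h4
    exact h4
  have hu : IsUnit (X.presheaf.map (homOfLE (inf_le_left : V ⊓ f ⁻¹ᵁ ModPair.interior I ≤ V)).op b) := by
    have h1 : IsUnit ((X.presheaf.map (homOfLE (X.basicOpen_le b)).op).hom b) :=
      RingedSpace.isUnit_res_basicOpen _ b
    have h2 := h1.map (X.presheaf.map (homOfLE hsub).op).hom
    have e : (X.presheaf.map (homOfLE hsub).op).hom ((X.presheaf.map (homOfLE (X.basicOpen_le b)).op).hom b) =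
        (X.presheaf.map (homOfLE (inf_le_left : V ⊓ f ⁻¹ᵁ ModPair.interior I ≤ V)).op).hom b := by
      rw [← CommRingCat.comp_apply, ← Functor.map_comp]; rfl
    exact e ▸ h2
  rw [← hu.mul_left_eq_zero, ← map_mul, hs, map_zero]

/-- Conclusion for fibre products: both pulled-back moduli effective. -/
lemma mprod_of_effective {S T : Scheme.{u}} (f : X ⟶ S) (g : T ⟶ S) (I : X.IdealSheafData)
    (J : T.IdealSheafData) (h₁ : BlowUp.IsEffCartierIdeal (I.comap (pullback.fst f g)))
    (h₂ : BlowUp.IsEffCartierIdeal (J.comap (pullback.snd f g))) :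
    IsSchemeTheoreticallyDominant (ModPair.prodInterior f g I J).ι ∧ IsIso (ModPair.mprodι f g I J) := by
  have e : ModPair.prodInterior f g I J =
      ModPair.interior (I.comap (pullback.fst f g) * J.comap (pullback.snd f g)) := by
    rw [interior_mul, ← preimage_interior, ← preimage_interior]
    rfl
  have hd : IsSchemeTheoreticallyDominant (ModPair.prodInterior f g I J).ι :=
    e ▸ dominant_interior (H29Blow.isEffCartierIdeal_mul h₁ h₂)
  refine ⟨hd, ?_⟩
  exact (Scheme.isIso_subschemeι_iff_eq_bot _).2 hd.ker_eq_bot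

end Groth.Agent.H26ModPair
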