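import Groth.Agent.H26ModPair.Basic
import Groth.Agent.H17.SchDense

/-! The product of the interiors and its closure; ambient products. -/

set_option autoImplicit false

universe u

open CategoryTheory Limits AlgebraicGeometry TopologicalSpace

namespace Groth.Agent.H26ModPair

variable {X T S : Scheme.{u}}

lemma dense_mono {U V : X.Opens} (h : U ≤ V) (hU : CInt.IsSchematicallyDense U) :
    CInt.IsSchematicallyDense V := fun W s t hst => by
  refine hU W ?_
  have e : homOfLE (inf_le_left : W ⊓ U ≤ W) = homOfLE (inf_le_inf_left W h) ≫ homOfLE (inf_le_left : W ⊓ V ≤ W) := rfl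
  rw [e, op_comp, Functor.map_comp, CommRingCat.comp_apply, CommRingCat.comp_apply]
  exact congrArg _ hst

lemma range_toImage_subset (U : X.Opens) : Set.range U.ι.toImage ⊆ Set.range (U.ι.imageι ⁻¹ᵁ U).ι := by
  rw [Scheme.Opens.range_ι]
  rintro _ ⟨y, rfl⟩
  show U.ι.imageι (U.ι.toImage y) ∈ U
  rw [← Scheme.Hom.comp_apply, Scheme.Hom.toImage_imageι]
  exact y.2

lemma dense_image (U : X.Opens) [IsAffineHom U.ι] : CInt.IsSchematicallyDense (U.ι.imageι ⁻¹ᵁ U) := by
  haveI : IsAffineHom (U.ι.imageι ⁻¹ᵁ U).ι :=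
    MorphismProperty.of_isPullback (P := @IsAffineHom) (isPullback_morphismRestrict U.ι.imageι U).flip.flip inferInstance
  haveI : IsSchemeTheoreticallyDominant (U.ι.imageι ⁻¹ᵁ U).ι := ⟨le_bot_iff.1 (by
    rw [← Groth.Agent.H17.ker_toImage U.ι, ← IsOpenImmersion.lift_fac _ U.ι.toImage (range_toImage_subset U)]
    exact Scheme.Hom.le_ker_comp _ _)⟩
  exact dense_of_dominant

lemma isIso_imageι_restrict (U : X.Opens) : IsIso (U.ι.imageι ∣_ U) := by
  haveI : IsClosedImmersion (U.ι.imageι ∣_ U) :=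
    IsZariskiLocalAtTarget.restrict (P := @IsClosedImmersion) inferInstance U
  haveI : IsSplitEpi (U.ι.imageι ∣_ U) := IsSplitEpi.mk' ⟨IsOpenImmersion.lift _ _ (range_toImage_subset U), by
    rw [← cancel_mono U.ι, Category.assoc, morphismRestrict_ι, IsOpenImmersion.lift_fac_assoc,
      Scheme.Hom.toImage_imageι, Category.id_comp]⟩
  exact isIso_of_mono_of_isSplitEpi _

/-- A morphism sending a dense open into `U` factors through the closure of `U`. -/
lemma exists_lift_image {W : Scheme.{u}} (h : W ⟶ X) (U : X.Opens) (V : W.Opens) [IsSchemeTheoreticallyDominant V.ι]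
    (hVU : V ≤ h ⁻¹ᵁ U) : ∃ c : W ⟶ U.ι.image, c ≫ U.ι.imageι = h := by
  have hr : Set.range (V.ι ≫ h) ⊆ Set.range U.ι := by
    rw [Scheme.Opens.range_ι]
    rintro _ ⟨y, rfl⟩
    exact hVU y.2
  have hker : U.ι.imageι.ker ≤ h.ker := by
    rw [Scheme.IdealSheafData.ker_subschemeι, ← Scheme.IdealSheafData.map_bot h, ← V.ι.ker_eq_bot,
      Scheme.IdealSheafData.map_ker, ← IsOpenImmersion.lift_fac U.ι (V.ι ≫ h) hr]
    exact Scheme.Hom.le_ker_comp _ _
  exact ⟨IsClosedImmersion.lift _ _ hker, IsClosedImmersion.lift_fac _ _ _⟩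

section Mprod

variable (f : X ⟶ S) (g : T ⟶ S) (I : X.IdealSheafData) (J : T.IdealSheafData)

lemma prodInterior_eq :
    ModPair.prodInterior f g I J = ModPair.interior (I.comap (pullback.fst f g) * J.comap (pullback.snd f g)) := by
  rw [interior_mul, ← preimage_interior, ← preimage_interior]
  rfl

lemma isAffineHom_prodInterior (hI : BlowUp.IsEffCartierIdeal I) (hJ : BlowUp.IsEffCartierIdeal J) :
    IsAffineHom (ModPair.prodInterior f g I J).ι := by
  haveI := isAffineHom_interior hI
  haveI := isAffineHom_interior hJ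
  set A := pullback.fst f g ⁻¹ᵁ ModPair.interior I
  set B := pullback.snd f g ⁻¹ᵁ ModPair.interior J
  haveI : IsAffineHom A.ι :=
    MorphismProperty.of_isPullback (P := @IsAffineHom) (isPullback_morphismRestrict (pullback.fst f g) _).flip.flip inferInstance
  haveI : IsAffineHom B.ι :=
    MorphismProperty.of_isPullback (P := @IsAffineHom) (isPullback_morphismRestrict (pullback.snd f g) _).flip.flip inferInstance
  have hp : A ⊓ B = ModPair.prodInterior f g I J := rfl
  rw [← hp]
  haveI : IsAffineHom (A.ι ⁻¹ᵁ B).ι :=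
    MorphismProperty.of_isPullback (P := @IsAffineHom) (isPullback_morphismRestrict A.ι B).flip.flip inferInstance
  have e : A.ι ''ᵁ (A.ι ⁻¹ᵁ B) = A ⊓ B := by
    rw [Scheme.Hom.image_preimage_eq_opensRange_inf, Scheme.Opens.opensRange_ι]
  rw [← e, ← Scheme.Hom.isoImage_inv_ι]
  infer_instance

lemma preimage_mprodι :
    ModPair.mprodι f g I J ⁻¹ᵁ ModPair.prodInterior f g I J =
      ModPair.interior (I.comap (ModPair.mprodι f g I J ≫ pullback.fst f g)) ⊓
        ModPair.interior (J.comap (ModPair.mprodι f g I J ≫ pullback.snd f g)) := by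
  rw [← preimage_interior, ← preimage_interior]
  rfl

lemma dense_mprod (hI : BlowUp.IsEffCartierIdeal I) (hJ : BlowUp.IsEffCartierIdeal J) :
    CInt.IsSchematicallyDense (ModPair.mprodι f g I J ⁻¹ᵁ ModPair.prodInterior f g I J) := by
  haveI := isAffineHom_prodInterior f g I J hI hJ
  exact dense_image _

lemma isEff_mprod_fst (hI : BlowUp.IsEffCartierIdeal I) (hJ : BlowUp.IsEffCartierIdeal J) :
    BlowUp.IsEffCartierIdeal (I.comap (ModPair.mprodι f g I J ≫ pullback.fst f g)) :=
  isEff_comap_of_dense hI _ (dense_mono (U := ModPair.mprodι f g I J ⁻¹ᵁ ModPair.prodInterior f g I J) (fun x hx => hx.1) (dense_mprod f g I J hI hJ))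

lemma isEff_mprod_snd (hI : BlowUp.IsEffCartierIdeal I) (hJ : BlowUp.IsEffCartierIdeal J) :
    BlowUp.IsEffCartierIdeal (J.comap (ModPair.mprodι f g I J ≫ pullback.snd f g)) :=
  isEff_comap_of_dense hJ _ (dense_mono (U := ModPair.mprodι f g I J ⁻¹ᵁ ModPair.prodInterior f g I J) (fun x hx => hx.2) (dense_mprod f g I J hI hJ))

lemma interior_le_of_ambient {Y : Scheme.{u}} {K : Y.IdealSheafData} {L : X.IdealSheafData} {h : Y ⟶ X}
    (ha : ModPair.IsAmbient K L h) : ModPair.interior K ≤ h ⁻¹ᵁ ModPair.interior L := by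
  rw [preimage_interior]
  exact fun x hx hs => hx (Scheme.IdealSheafData.support_antitone ha hs)

/-- Universal property of the closure of the product of the interiors. -/
lemma exists_lift_mprod {W : Scheme.{u}} {IW : W.IdealSheafData} (hW : BlowUp.IsEffCartierIdeal IW)
    (h : W ⟶ pullback f g) (h₁ : ModPair.IsAmbient IW I (h ≫ pullback.fst f g))
    (h₂ : ModPair.IsAmbient IW J (h ≫ pullback.snd f g)) :
    ∃ c : W ⟶ ModPair.mprod f g I J, c ≫ ModPair.mprodι f g I J = h := by
  haveI := dominant_interior hW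
  exact exists_lift_image h _ (ModPair.interior IW)
    fun x hx => ⟨interior_le_of_ambient h₁ hx, interior_le_of_ambient h₂ hx⟩

end Mprod

section Ideals

variable {Y : Scheme.{u}}

/-- Cancellation of an effective Cartier ideal. -/
lemma mul_right_cancel_eff {K K' E : Y.IdealSheafData} (hE : BlowUp.IsEffCartierIdeal E) (h : K * E = K' * E) :
    K = K' :=
  H29Blow.ext_of_forall_exists fun y => by
    obtain ⟨V, hy, e, he, hV⟩ := hE y
    refine ⟨V, hy, ?_⟩
    have := congrArg (fun L => L.ideal V) h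
    simp only [ideal_mul, hV] at this
    ext z
    constructor <;> intro hz
    · have : z * e ∈ K'.ideal V * Ideal.span {e} := this ▸ Ideal.mul_mem_mul hz (Ideal.mem_span_singleton_self e)
      obtain ⟨w, hw, hwe⟩ := Ideal.mem_mul_span_singleton.1 this
      rwa [(mul_cancel_right_mem_nonZeroDivisors he).1 hwe] at hw
    · have : z * e ∈ K.ideal V * Ideal.span {e} := this ▸ Ideal.mul_mem_mul hz (Ideal.mem_span_singleton_self e)
      obtain ⟨w, hw, hwe⟩ := Ideal.mem_mul_span_singleton.1 this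
      rwa [(mul_cancel_right_mem_nonZeroDivisors he).1 hwe] at hw

/-- `(I ∩ J) (I + J) = I J` when `I + J` is invertible. -/
lemma inf_mul_sup {I J : Y.IdealSheafData} (hE : BlowUp.IsEffCartierIdeal (I ⊔ J)) :
    (I ⊓ J) * (I ⊔ J) = I * J :=
  H29Blow.ext_of_forall_exists fun y => by
    obtain ⟨V, hy, e, he, hV⟩ := hE y
    refine ⟨V, hy, ?_⟩
    rw [ideal_mul, ideal_mul, hV, Scheme.IdealSheafData.ideal_inf, Pi.inf_apply]
    rw [Scheme.IdealSheafData.ideal_sup, Pi.sup_apply] at hV
    refine le_antisymm ?_ (Ideal.mul_le.2 fun x hx y hy => ?_)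
    · rw [← hV, Ideal.mul_sup, mul_comm]
      exact sup_le (Ideal.mul_mono_right inf_le_right) (Ideal.mul_mono_left inf_le_left)
    · obtain ⟨x₁, rfl⟩ := Ideal.mem_span_singleton'.1 (hV ▸ Ideal.mem_sup_left hx : x ∈ Ideal.span {e})
      obtain ⟨y₁, rfl⟩ := Ideal.mem_span_singleton'.1 (hV ▸ Ideal.mem_sup_right hy : y ∈ Ideal.span {e})
      refine Ideal.mem_mul_span_singleton.2 ⟨x₁ * y₁ * e, ⟨?_, ?_⟩, by ring⟩
      · show x₁ * y₁ * e ∈ I.ideal V
        rw [show x₁ * y₁ * e = y₁ * (x₁ * e) by ring]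
        exact Ideal.mul_mem_left _ _ hx
      · show x₁ * y₁ * e ∈ J.ideal V
        rw [show x₁ * y₁ * e = x₁ * (y₁ * e) by ring]
        exact Ideal.mul_mem_left _ _ hy

lemma interior_inf (I J : Y.IdealSheafData) :
    ModPair.interior (I ⊓ J) = ModPair.interior I ⊓ ModPair.interior J := by
  have hle : I * J ≤ I ⊓ J := fun V => Ideal.mul_le_inf
  refine le_antisymm (fun x hx => ⟨fun h => hx (Scheme.IdealSheafData.support_antitone inf_le_left h),
    fun h => hx (Scheme.IdealSheafData.support_antitone inf_le_right h)⟩) ?_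
  rw [← interior_mul]
  exact fun x hx h => hx (Scheme.IdealSheafData.support_antitone hle h)

end Ideals

section AmbProd

variable {Y : Scheme.{u}} (f : X ⟶ S) (g : T ⟶ S) (I : X.IdealSheafData) (J : T.IdealSheafData)
  (π : Y ⟶ ModPair.mprod f g I J) {K : Y.IdealSheafData}

lemma comap_prodCentre :
    (ModPair.prodCentre f g I J).comap π = I.comap (π ≫ ModPair.mprodι f g I J ≫ pullback.fst f g) ⊔
      J.comap (π ≫ ModPair.mprodι f g I J ≫ pullback.snd f g) := by
  rw [ModPair.prodCentre, Scheme.IdealSheafData.comap_sup, ← Scheme.IdealSheafData.comap_comp,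
    ← Scheme.IdealSheafData.comap_comp]

/-- The modulus of an ambient product is the intersection of the two moduli. -/
lemma ambProd_mod (h : ModPair.IsAmbProd f g I J π K) :
    K = I.comap (π ≫ ModPair.mprodι f g I J ≫ pullback.fst f g) ⊓
      J.comap (π ≫ ModPair.mprodι f g I J ≫ pullback.snd f g) := by
  obtain ⟨hb, he⟩ := h
  have hE := hb.1
  refine mul_right_cancel_eff hE ?_
  rw [he, comap_prodCentre, inf_mul_sup (comap_prodCentre f g I J π ▸ hE), ← Scheme.IdealSheafData.comap_comp,
    ← Scheme.IdealSheafData.comap_comp]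

/-- A blow-up of the closure in the sum of the moduli carries an ambient product. -/
lemma isAmbProd_of_isBlowUp (hb : BlowUp.IsBlowUp π (ModPair.prodCentre f g I J)) :
    ModPair.IsAmbProd f g I J π (I.comap (π ≫ ModPair.mprodι f g I J ≫ pullback.fst f g) ⊓
      J.comap (π ≫ ModPair.mprodι f g I J ≫ pullback.snd f g)) := by
  refine ⟨hb, ?_⟩
  rw [comap_prodCentre, inf_mul_sup (comap_prodCentre f g I J π ▸ hb.1), ← Scheme.IdealSheafData.comap_comp,
    ← Scheme.IdealSheafData.comap_comp]

lemma isEff_ambProd (hI : BlowUp.IsEffCartierIdeal I) (hJ : BlowUp.IsEffCartierIdeal J)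
    (h : ModPair.IsAmbProd f g I J π K) : BlowUp.IsEffCartierIdeal K := by
  obtain ⟨hb, he⟩ := h
  exact H29Blow.isEffCartierIdeal_left_of_mul (he ▸ H29Blow.isEffCartierIdeal_mul
    (H29Blow.isEffCartierIdeal_comap_blowUp hb (isEff_mprod_fst f g I J hI hJ))
    (H29Blow.isEffCartierIdeal_comap_blowUp hb (isEff_mprod_snd f g I J hI hJ)))

lemma interior_ambProd (h : ModPair.IsAmbProd f g I J π K) :
    ModPair.interior K = (π ≫ ModPair.mprodι f g I J) ⁻¹ᵁ ModPair.prodInterior f g I J := by
  rw [ambProd_mod f g I J π h, interior_inf, ← preimage_interior, ← preimage_interior]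
  rfl

end AmbProd

end Groth.Agent.H26ModPair
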