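import Groth.Agent.H26ModPair.AmbProd
import Groth.Agent.H26Blow.Proper
import Groth.Agent.S18738

/-! Pullbacks of modulus pairs in the localization at admissible blow-ups. -/

set_option autoImplicit false

universe u v v' w w'

open CategoryTheory Limits AlgebraicGeometry TopologicalSpace

namespace Groth.Agent.H26ModPair

section General

variable {C : Type w} [Category.{v} C] {D : Type w'} [Category.{v'} D] (L : C ⥤ D) (W : MorphismProperty C)
  [W.HasRightCalculusOfFractions] [L.IsLocalization W]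

/-- Two morphisms in the localization have a common denominator. -/
lemma exists_common_denominator {Z A B : C} (α : L.obj Z ⟶ L.obj A) (β : L.obj Z ⟶ L.obj B) :
    ∃ (Z' : C) (σ : Z' ⟶ Z) (a : Z' ⟶ A) (b : Z' ⟶ B),
      W σ ∧ L.map σ ≫ α = L.map a ∧ L.map σ ≫ β = L.map b := by
  obtain ⟨φ, rfl⟩ := Localization.exists_rightFraction L W α
  obtain ⟨ψ, rfl⟩ := Localization.exists_rightFraction L W β
  obtain ⟨χ, hχ⟩ := MorphismProperty.LeftFraction.exists_rightFraction (W := W) ⟨φ.s, ψ.s, ψ.hs⟩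
  dsimp at hχ
  refine ⟨χ.X', χ.s ≫ φ.s, χ.s ≫ φ.f, χ.f ≫ ψ.f, W.comp_mem _ _ χ.hs φ.hs, ?_, ?_⟩
  · rw [L.map_comp, Category.assoc, MorphismProperty.RightFraction.map_s_comp_map, L.map_comp]
  · rw [hχ, L.map_comp, Category.assoc, MorphismProperty.RightFraction.map_s_comp_map, L.map_comp]

include W in
/-- A square which is a pullback up to refinement in `W` becomes a pullback in the localization. -/
theorem isPullback_map_localization {Y T X P : C} (p : Y ⟶ T) (q : Y ⟶ X) (g : T ⟶ P) (f : X ⟶ P)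
    (w : p ≫ g = q ≫ f)
    (hex : ∀ (Z : C) (a : Z ⟶ T) (c : Z ⟶ X), a ≫ g = c ≫ f →
      ∃ (Z' : C) (s : Z' ⟶ Z) (k : Z' ⟶ Y), W s ∧ k ≫ p = s ≫ a ∧ k ≫ q = s ≫ c)
    (huniq : ∀ (Z : C) (u v : Z ⟶ Y), u ≫ p = v ≫ p → u ≫ q = v ≫ q →
      ∃ (Z' : C) (s : Z' ⟶ Z), W s ∧ s ≫ u = s ≫ v) :
    IsPullback (L.map p) (L.map q) (L.map g) (L.map f) := by
  haveI := Localization.essSurj L W
  have hinv : ∀ {A B : C} (s : A ⟶ B), W s → IsIso (L.map s) := fun s hs => Localization.inverts L W s hs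
  have key : ∀ (Z : C) (α : L.obj Z ⟶ L.obj T) (β : L.obj Z ⟶ L.obj X), α ≫ L.map g = β ≫ L.map f →
      ∃! l : L.obj Z ⟶ L.obj Y, l ≫ L.map p = α ∧ l ≫ L.map q = β := by
    intro Z α β h
    obtain ⟨Z₁, σ, a, c, hσ, ha, hc⟩ := exists_common_denominator L W α β
    have h1 : L.map (a ≫ g) = L.map (c ≫ f) := by
      rw [L.map_comp, L.map_comp, ← ha, ← hc, Category.assoc, Category.assoc, h]
    obtain ⟨Z₂, t, ht, hteq⟩ := (MorphismProperty.map_eq_iff_precomp L W _ _).1 h1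
    obtain ⟨Z₃, s, k, hs, hkp, hkq⟩ := hex Z₂ (t ≫ a) (t ≫ c) (by simpa using hteq)
    haveI := hinv _ (W.comp_mem _ _ hs (W.comp_mem _ _ ht hσ))
    refine ⟨inv (L.map (s ≫ t ≫ σ)) ≫ L.map k, ⟨?_, ?_⟩, ?_⟩
    · rw [Category.assoc, IsIso.inv_comp_eq, ← L.map_comp, hkp]
      simp only [L.map_comp, Category.assoc, ha]
    · rw [Category.assoc, IsIso.inv_comp_eq, ← L.map_comp, hkq]
      simp only [L.map_comp, Category.assoc, hc]
    · rintro l ⟨hl₁, hl₂⟩
      set l' : L.obj Z ⟶ L.obj Y := inv (L.map (s ≫ t ≫ σ)) ≫ L.map k with hl'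
      obtain ⟨Z₄, ρ, u₁, v₁, hρ, hu, hv⟩ := exists_common_denominator L W l l'
      have e₁ : L.map (u₁ ≫ p) = L.map (v₁ ≫ p) := by
        rw [L.map_comp, L.map_comp, ← hu, ← hv, Category.assoc, Category.assoc, hl₁]
        congr 1
        rw [hl', Category.assoc, eq_comm, IsIso.inv_comp_eq, ← L.map_comp, hkp]
        simp only [L.map_comp, Category.assoc, ha]
      have e₂ : L.map (u₁ ≫ q) = L.map (v₁ ≫ q) := by
        rw [L.map_comp, L.map_comp, ← hu, ← hv, Category.assoc, Category.assoc, hl₂]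
        congr 1
        rw [hl', Category.assoc, eq_comm, IsIso.inv_comp_eq, ← L.map_comp, hkq]
        simp only [L.map_comp, Category.assoc, hc]
      obtain ⟨Z₅, r₁, hr₁, hr₁eq⟩ := (MorphismProperty.map_eq_iff_precomp L W _ _).1 e₁
      have e₂' : L.map ((r₁ ≫ u₁) ≫ q) = L.map ((r₁ ≫ v₁) ≫ q) := by
        simp only [L.map_comp, Category.assoc] at e₂ ⊢
        rw [e₂]
      obtain ⟨Z₆, r₂, hr₂, hr₂eq⟩ := (MorphismProperty.map_eq_iff_precomp L W _ _).1 e₂'
      obtain ⟨Z₇, r₃, hr₃, hr₃eq⟩ := huniq Z₆ (r₂ ≫ r₁ ≫ u₁) (r₂ ≫ r₁ ≫ v₁)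
        (by simp only [Category.assoc, hr₁eq]) (by simpa using hr₂eq)
      have hlast : L.map u₁ = L.map v₁ := (MorphismProperty.map_eq_iff_precomp L W _ _).2
        ⟨Z₇, r₃ ≫ r₂ ≫ r₁, W.comp_mem _ _ hr₃ (W.comp_mem _ _ hr₂ hr₁), by simpa using hr₃eq⟩
      haveI := hinv _ hρ
      rw [← cancel_epi (L.map ρ), hu, hv, hlast]
  have key' : ∀ (E : D) (α : E ⟶ L.obj T) (β : E ⟶ L.obj X), α ≫ L.map g = β ≫ L.map f →
      ∃! l : E ⟶ L.obj Y, l ≫ L.map p = α ∧ l ≫ L.map q = β := by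
    intro E α β h
    let e := L.objObjPreimageIso E
    obtain ⟨l, ⟨hl₁, hl₂⟩, hu⟩ := key _ (e.hom ≫ α) (e.hom ≫ β) (by simp [h])
    refine ⟨e.inv ≫ l, ⟨by simp [hl₁], by simp [hl₂]⟩, fun l' hl' => ?_⟩
    rw [← hu (e.hom ≫ l') ⟨by simp [hl'.1], by simp [hl'.2]⟩, e.inv_hom_id_assoc]
  refine ⟨⟨by rw [← L.map_comp, ← L.map_comp, w]⟩, ⟨PullbackCone.IsLimit.mk _
    (fun s => (key' s.pt s.fst s.snd s.condition).exists.choose)
    (fun s => (key' s.pt s.fst s.snd s.condition).exists.choose_spec.1)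
    (fun s => (key' s.pt s.fst s.snd s.condition).exists.choose_spec.2)
    (fun s m h₁ h₂ => (key' s.pt s.fst s.snd s.condition).unique ⟨h₁, h₂⟩
      (key' s.pt s.fst s.snd s.condition).exists.choose_spec)⟩⟩

include W in
/-- All cospans of a localization are pulled back once those coming from the source are. -/
theorem hasPullbacks_of_localization
    (h : ∀ {A B P : C} (f : A ⟶ P) (g : B ⟶ P), HasPullback (L.map f) (L.map g)) : HasPullbacks D := by
  haveI := Localization.essSurj L W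
  suffices key : ∀ {A B P : D} (α : A ⟶ P) (β : B ⟶ P), HasPullback α β by
    haveI : ∀ {X Y Z : D} {f : X ⟶ Z} {g : Y ⟶ Z}, HasLimit (cospan f g) := key _ _
    exact hasPullbacks_of_hasLimit_cospan D
  intro A B P α β
  let eA := L.objObjPreimageIso A
  let eB := L.objObjPreimageIso B
  let eP := L.objObjPreimageIso P
  obtain ⟨φ, hφ⟩ := Localization.exists_rightFraction L W (eA.hom ≫ α ≫ eP.inv)
  obtain ⟨ψ, hψ⟩ := Localization.exists_rightFraction L W (eB.hom ≫ β ≫ eP.inv)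
  haveI := h φ.f ψ.f
  let iA : L.obj φ.X' ≅ A := Localization.isoOfHom L W φ.s φ.hs ≪≫ eA
  let iB : L.obj ψ.X' ≅ B := Localization.isoOfHom L W ψ.s ψ.hs ≪≫ eB
  have wA : L.map φ.f ≫ eP.hom = iA.hom ≫ α := by
    rw [← MorphismProperty.RightFraction.map_s_comp_map φ L (Localization.inverts L W), ← hφ]
    simp [iA]
  have wB : L.map ψ.f ≫ eP.hom = iB.hom ≫ β := by
    rw [← MorphismProperty.RightFraction.map_s_comp_map ψ L (Localization.inverts L W), ← hψ]
    simp [iB]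
  exact ((IsPullback.of_hasPullback (L.map φ.f) (L.map ψ.f)).of_iso (Iso.refl _) iA iB eP
    (fst' := pullback.fst _ _ ≫ iA.hom) (snd' := pullback.snd _ _ ≫ iB.hom) (by simp) (by simp) wA wB).hasPullback

include W in
/-- An object with a unique morphism from everything stays terminal in a localization. -/
noncomputable def isTerminal_map {T : C} (hT : IsTerminal T) : IsTerminal (L.obj T) :=
  haveI := Localization.essSurj L W
  IsTerminal.ofUniqueHom (fun E => (L.objObjPreimageIso E).inv ≫ L.map (hT.from _)) fun E m => by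
    obtain ⟨Z', σ, a, b, hσ, ha, hb⟩ :=
      exists_common_denominator L W ((L.objObjPreimageIso E).hom ≫ m) (L.map (hT.from _))
    haveI := Localization.inverts L W σ hσ
    rw [Iso.eq_inv_comp, ← cancel_epi (L.map σ), ha, hb, hT.hom_ext a b]

end General

open ModPair

variable {P T X : ModPair.Pair.{u}}

lemma exists_fg_comap {Y Z : Scheme.{u}} {I : Y.IdealSheafData} {J : Z.IdealSheafData}
    (hI : BlowUp.IsEffCartierIdeal I) (hJ : BlowUp.IsEffCartierIdeal J) {W : Scheme.{u}} (c : W ⟶ Y) (a : W ⟶ Z)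
    (x : W) : ∃ V : W.affineOpens, x ∈ V.1 ∧ ((I.comap c ⊔ J.comap a).ideal V).FG := by
  obtain ⟨U, hxU, i, -, hU⟩ := hI (c x)
  obtain ⟨U', hxU', j, -, hU'⟩ := hJ (a x)
  obtain ⟨V, hV, hxV, hVU⟩ := exists_isAffineOpen_mem_and_subset (U := c ⁻¹ᵁ U.1 ⊓ a ⁻¹ᵁ U'.1) (x := x) ⟨hxU, hxU'⟩
  refine ⟨⟨V, hV⟩, hxV, ?_⟩
  rw [Scheme.IdealSheafData.ideal_sup, Pi.sup_apply,
    H29Blow.ideal_comap I c U ⟨V, hV⟩ (fun y hy => (hVU hy).1), hU,
    H29Blow.ideal_comap J a U' ⟨V, hV⟩ (fun y hy => (hVU hy).2), hU']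
  exact Submodule.FG.sup (Ideal.FG.map (Submodule.fg_span_singleton _) _) (Ideal.FG.map (Submodule.fg_span_singleton _) _)

/-- Every pair mapping to two others has an admissible blow-up on which the sum of the two moduli is effective. -/
lemma exists_refine (Z : ModPair.Pair.{u}) (c : Z ⟶ X) (a : Z ⟶ T) :
    ∃ (Z' : ModPair.Pair.{u}) (s : Z' ⟶ Z), ModPair.Pair.admBlowup s ∧
      BlowUp.IsEffCartierIdeal (X.mod.comap (s ≫ c).hom ⊔ T.mod.comap (s ≫ a).hom) := by
  obtain ⟨Z', b, hb⟩ := H26Blow.exists_isBlowUp (X.mod.comap c.hom ⊔ T.mod.comap a.hom)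
  haveI : IsProper b := H26Blow.isProper_of_isBlowUp hb (exists_fg_comap X.isEffCartier T.isEffCartier c.hom a.hom)
  refine ⟨⟨Z', Z.mod.comap b, H29Blow.isEffCartierIdeal_comap_blowUp hb Z.isEffCartier⟩, ⟨b, le_refl _⟩,
    ⟨rfl, inferInstance, H29Blow.isIso_morphismRestrict hb _ fun x hx hs => ?_⟩, ?_⟩
  · exact hx (Scheme.IdealSheafData.support_antitone (le_sup_of_le_left c.cond) hs)
  · show BlowUp.IsEffCartierIdeal (X.mod.comap (b ≫ c.hom) ⊔ T.mod.comap (b ≫ a.hom))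
    rw [Scheme.IdealSheafData.comap_comp, Scheme.IdealSheafData.comap_comp, ← Scheme.IdealSheafData.comap_sup]
    exact hb.1

section Amb

variable {f : X ⟶ P} {g : T ⟶ P} {Y : ModPair.Pair.{u}} {π : Y.total ⟶ ModPair.mprod f.hom g.hom X.mod T.mod}
  {p : Y ⟶ T} {q : Y ⟶ X}

lemma exists_lift_ambProd (hY : ModPair.IsAmbProd f.hom g.hom X.mod T.mod π Y.mod)
    (hp : p.hom = π ≫ ModPair.mprodι f.hom g.hom X.mod T.mod ≫ pullback.snd f.hom g.hom)
    (hq : q.hom = π ≫ ModPair.mprodι f.hom g.hom X.mod T.mod ≫ pullback.fst f.hom g.hom)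
    {Z : ModPair.Pair.{u}} (a : Z ⟶ T) (c : Z ⟶ X) (h : a ≫ g = c ≫ f)
    (he : BlowUp.IsEffCartierIdeal (X.mod.comap c.hom ⊔ T.mod.comap a.hom)) :
    ∃ k : Z ⟶ Y, k ≫ p = a ∧ k ≫ q = c := by
  have h' : c.hom ≫ f.hom = a.hom ≫ g.hom := congrArg ModPair.Pair.Hom.hom h.symm
  obtain ⟨m, hm⟩ := exists_lift_mprod f.hom g.hom X.mod T.mod Z.isEffCartier (pullback.lift c.hom a.hom h')
    (by rw [pullback.lift_fst]; exact c.cond) (by rw [pullback.lift_snd]; exact a.cond)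
  have hc : (ModPair.prodCentre f.hom g.hom X.mod T.mod).comap m = X.mod.comap c.hom ⊔ T.mod.comap a.hom := by
    rw [comap_prodCentre, reassoc_of% hm, reassoc_of% hm, pullback.lift_fst, pullback.lift_snd]
  obtain ⟨k, hk, -⟩ := hY.1.2 _ m (hc.symm ▸ he)
  have hkc : k ≫ π ≫ ModPair.mprodι f.hom g.hom X.mod T.mod = pullback.lift c.hom a.hom h' := by
    rw [reassoc_of% hk, hm]
  have hK : Y.mod.comap k = X.mod.comap c.hom ⊓ T.mod.comap a.hom := by
    refine mul_right_cancel_eff he ?_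
    have h0 := congrArg (fun L => L.comap k) hY.2
    simp only [H29Blow.comap_mul, ← Scheme.IdealSheafData.comap_comp, hk, reassoc_of% hk] at h0
    rw [hc] at h0
    rw [h0, inf_mul_sup he]
    simp only [reassoc_of% hm, pullback.lift_fst, pullback.lift_snd]
  refine ⟨⟨k, ?_⟩, ModPair.Pair.Hom.ext ?_, ModPair.Pair.Hom.ext ?_⟩
  · show Z.mod ≤ Y.mod.comap k
    rw [hK]
    exact le_inf c.cond a.cond
  · show k ≫ p.hom = a.hom
    rw [hp, reassoc_of% hkc, pullback.lift_snd]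
  · show k ≫ q.hom = c.hom
    rw [hq, reassoc_of% hkc, pullback.lift_fst]

lemma hom_ext_ambProd (hY : ModPair.IsAmbProd f.hom g.hom X.mod T.mod π Y.mod)
    (hp : p.hom = π ≫ ModPair.mprodι f.hom g.hom X.mod T.mod ≫ pullback.snd f.hom g.hom)
    (hq : q.hom = π ≫ ModPair.mprodι f.hom g.hom X.mod T.mod ≫ pullback.fst f.hom g.hom)
    {Z : ModPair.Pair.{u}} (u v : Z ⟶ Y) (h₁ : u ≫ p = v ≫ p) (h₂ : u ≫ q = v ≫ q)
    (he : BlowUp.IsEffCartierIdeal (X.mod.comap (u ≫ q).hom ⊔ T.mod.comap (u ≫ p).hom)) : u = v := by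
  have h₁' : u.hom ≫ p.hom = v.hom ≫ p.hom := congrArg ModPair.Pair.Hom.hom h₁
  have h₂' : u.hom ≫ q.hom = v.hom ≫ q.hom := congrArg ModPair.Pair.Hom.hom h₂
  rw [hp] at h₁'
  rw [hq] at h₂'
  have e : u.hom ≫ π = v.hom ≫ π := by
    rw [← cancel_mono (ModPair.mprodι f.hom g.hom X.mod T.mod)]
    apply pullback.hom_ext
    · simpa only [Category.assoc] using h₂'
    · simpa only [Category.assoc] using h₁'
  obtain ⟨w, -, hw⟩ := hY.1.2 _ (u.hom ≫ π) (by
    change BlowUp.IsEffCartierIdeal (X.mod.comap (u.hom ≫ q.hom) ⊔ T.mod.comap (u.hom ≫ p.hom)) at he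
    rw [hp, hq] at he
    rw [comap_prodCentre]
    simpa only [Category.assoc] using he)
  exact ModPair.Pair.Hom.ext ((hw u.hom rfl).trans (hw v.hom e.symm).symm)

theorem isPullback_ambProd (hY : ModPair.IsAmbProd f.hom g.hom X.mod T.mod π Y.mod)
    (hp : p.hom = π ≫ ModPair.mprodι f.hom g.hom X.mod T.mod ≫ pullback.snd f.hom g.hom)
    (hq : q.hom = π ≫ ModPair.mprodι f.hom g.hom X.mod T.mod ≫ pullback.fst f.hom g.hom) :
    IsPullback ((ModPair.Pair.admBlowup.{u}).Q.map p) ((ModPair.Pair.admBlowup.{u}).Q.map q)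
      ((ModPair.Pair.admBlowup.{u}).Q.map g) ((ModPair.Pair.admBlowup.{u}).Q.map f) := by
  haveI := Groth.Agent.S18738.result.{u}
  refine isPullback_map_localization (ModPair.Pair.admBlowup.{u}).Q ModPair.Pair.admBlowup p q g f
    (ModPair.Pair.Hom.ext ?_) (fun Z a c h => ?_) (fun Z u v h₁ h₂ => ?_)
  · show p.hom ≫ g.hom = q.hom ≫ f.hom
    rw [hp, hq]
    simp only [Category.assoc, pullback.condition]
  · obtain ⟨Z', s, hs, he⟩ := exists_refine Z c a
    obtain ⟨k, hk₁, hk₂⟩ := exists_lift_ambProd hY hp hq (s ≫ a) (s ≫ c) (by simp [h]) he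
    exact ⟨Z', s, k, hs, hk₁, hk₂⟩
  · obtain ⟨Z', s, hs, he⟩ := exists_refine Z (u ≫ q) (u ≫ p)
    exact ⟨Z', s, hs, hom_ext_ambProd hY hp hq (s ≫ u) (s ≫ v) (by simp [h₁]) (by simp [h₂])
      (by simpa using he)⟩

end Amb

theorem hasFiniteLimits_localization : HasFiniteLimits (ModPair.Pair.admBlowup.{u}).Localization := by
  haveI := Groth.Agent.S18738.result.{u}
  haveI : HasTerminal (ModPair.Pair.admBlowup.{u}).Localization :=
    (isTerminal_map (ModPair.Pair.admBlowup.{u}).Q ModPair.Pair.admBlowup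
      (T := ⟨Spec (CommRingCat.of (ULift.{u} ℤ)), ⊤, H29Blow.isEffCartierIdeal_top⟩)
      (IsTerminal.ofUniqueHom (fun Z => ⟨specULiftZIsTerminal.from _, by
          show Z.mod ≤ _
          rw [Scheme.IdealSheafData.comap_top]
          exact le_top⟩)
        fun Z m => ModPair.Pair.Hom.ext (specULiftZIsTerminal.hom_ext _ _))).hasTerminal
  haveI : HasPullbacks (ModPair.Pair.admBlowup.{u}).Localization :=
    hasPullbacks_of_localization (ModPair.Pair.admBlowup.{u}).Q ModPair.Pair.admBlowup fun {A B P} f g => by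
      obtain ⟨Y, π, hπ⟩ := H26Blow.exists_isBlowUp (ModPair.prodCentre f.hom g.hom A.mod B.mod)
      have hY := isAmbProd_of_isBlowUp f.hom g.hom A.mod B.mod π hπ
      exact (isPullback_ambProd (P := P) (T := B) (X := A) (f := f) (g := g) (π := π)
        (Y := ⟨Y, _, isEff_ambProd f.hom g.hom A.mod B.mod π A.isEffCartier B.isEffCartier hY⟩)
        (p := ⟨π ≫ ModPair.mprodι f.hom g.hom A.mod B.mod ≫ pullback.snd f.hom g.hom, inf_le_right⟩)
        (q := ⟨π ≫ ModPair.mprodι f.hom g.hom A.mod B.mod ≫ pullback.fst f.hom g.hom, inf_le_left⟩)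
        hY rfl rfl).flip.hasPullback
  exact hasFiniteLimits_of_hasTerminal_and_pullbacks

end Groth.Agent.H26ModPair
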