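import Groth.Agent.H26ModPair.Coprod
import Groth.Agent.S18738
import Mathlib.CategoryTheory.Localization.FiniteProducts
import Mathlib.CategoryTheory.Localization.Opposite

/-! Finite coproducts in the localization of modulus pairs at admissible blow-ups. -/

set_option autoImplicit false

universe u

open CategoryTheory Limits AlgebraicGeometry TopologicalSpace Opposite

namespace Groth.Agent.H26ModPair

variable {J : Type}

/-- The coproduct of a family of modulus pairs. -/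
noncomputable def sigmaPair (F : J → ModPair.Pair.{u}) : ModPair.Pair.{u} where
  total := ∐ fun i => (F i).total
  mod := sigmaIdeal _ fun i => (F i).mod
  isEffCartier := isEff_sigmaIdeal _ _ fun i => (F i).isEffCartier

/-- Its cofan. -/
noncomputable def pairCofan (F : J → ModPair.Pair.{u}) : Cofan F :=
  Cofan.mk (sigmaPair F) fun i => ⟨Sigma.ι (fun i => (F i).total) i,
    (comap_sigmaIdeal (fun i => (F i).total) (fun i => (F i).mod) i).ge⟩

/-- It is a colimit. -/
noncomputable def isColimitPairCofan (F : J → ModPair.Pair.{u}) : IsColimit (pairCofan F) :=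
  mkCofanColimit _
    (fun s => ⟨Limits.Sigma.desc fun i => (s.inj i).hom, le_of_comap_openCover (sigmaOpenCover _) fun i => by
      change (sigmaIdeal _ _).comap (Sigma.ι (fun i => (F i).total) i) ≤ ((s.pt.mod).comap _).comap (Sigma.ι (fun i => (F i).total) i)
      rw [comap_sigmaIdeal, ← Scheme.IdealSheafData.comap_comp, Limits.Sigma.ι_desc]
      exact (s.inj i).cond⟩)
    (fun s i => ModPair.Pair.Hom.ext (Limits.Sigma.ι_desc _ _))
    (fun s m hm => ModPair.Pair.Hom.ext (Sigma.hom_ext _ _ fun i =>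
      (congrArg ModPair.Pair.Hom.hom (hm i)).trans (Limits.Sigma.ι_desc (fun i => (s.inj i).hom) i).symm))

instance (J : Type) : HasColimitsOfShape (Discrete J) ModPair.Pair.{u} :=
  ⟨fun F => haveI := HasColimit.mk ⟨_, isColimitPairCofan (F.obj ∘ Discrete.mk)⟩
    hasColimit_of_iso Discrete.natIsoFunctor⟩

lemma isPullback_sigmaMap {Y Y' : J → Scheme.{u}} (f : ∀ i, Y i ⟶ Y' i) (i : J) :
    IsPullback (f i) (Sigma.ι Y i) (Sigma.ι Y' i) (Limits.Sigma.map f) := by
  refine IsOpenImmersion.isPullback _ _ _ _ (Limits.Sigma.ι_map _ _) (le_antisymm ?_ ?_)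
  · rintro x ⟨y, hxy⟩
    obtain ⟨j, z, rfl⟩ := (sigmaOpenCover Y).exists_eq x
    change Sigma.ι Y' i y = (Sigma.ι Y j ≫ Limits.Sigma.map f) z at hxy
    rw [Limits.Sigma.ι_map] at hxy
    obtain ⟨rfl, -⟩ := Sigma.mk.injEq _ _ _ _ ▸ (sigmaι_eq_iff _ _ _ _ _).1 hxy
    exact ⟨z, rfl⟩
  · rintro _ ⟨z, rfl⟩
    refine ⟨f i z, ?_⟩
    change (f i ≫ Sigma.ι Y' i) z = (Sigma.ι Y i ≫ Limits.Sigma.map f) z
    rw [Limits.Sigma.ι_map]

lemma isIso_restrict_of_isPullback {X Y X' Y' : Scheme.{u}} {f : X ⟶ Y} {a : X ⟶ X'} {b : Y ⟶ Y'} {m : X' ⟶ Y'}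
    (sq : IsPullback f a b m) [IsOpenImmersion b] (V : Y.Opens) [IsIso (f ∣_ V)] : IsIso (m ∣_ (b ''ᵁ V)) := by
  have sq₁ := (isPullback_morphismRestrict f V).paste_vert sq
  let e := b.isoImage V
  have hr : Set.range ((f ⁻¹ᵁ V).ι ≫ a) ⊆ Set.range (m ⁻¹ᵁ (b ''ᵁ V)).ι := by
    rw [Scheme.Opens.range_ι]
    rintro _ ⟨y, rfl⟩
    refine ⟨f y.1, y.2, ?_⟩
    show (f ≫ b) y.1 = (a ≫ m) y.1
    rw [sq.w]
  let t := IsOpenImmersion.lift (m ⁻¹ᵁ (b ''ᵁ V)).ι ((f ⁻¹ᵁ V).ι ≫ a) hr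
  have ht : t ≫ (m ⁻¹ᵁ (b ''ᵁ V)).ι = (f ⁻¹ᵁ V).ι ≫ a := IsOpenImmersion.lift_fac _ _ _
  have hw : (f ∣_ V) ≫ e.hom = t ≫ (m ∣_ (b ''ᵁ V)) := by
    rw [← cancel_mono (b ''ᵁ V).ι, Category.assoc, Category.assoc, Scheme.Hom.isoImage_hom_ι, morphismRestrict_ι,
      reassoc_of% ht, morphismRestrict_ι_assoc, sq.w]
  have sq₂ : IsPullback (f ∣_ V) t e.hom (m ∣_ (b ''ᵁ V)) := by
    refine IsPullback.of_bot ?_ hw (isPullback_morphismRestrict m (b ''ᵁ V))
    simpa only [e, ht, Scheme.Hom.isoImage_hom_ι] using sq₁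
  haveI : IsIso t := sq₂.isIso_snd_of_isIso
  have : m ∣_ (b ''ᵁ V) = inv t ≫ (f ∣_ V) ≫ e.hom := by rw [hw, IsIso.inv_hom_id_assoc]
  rw [this]
  infer_instance

lemma adm_sigmaMap {Y Y' : J → Scheme.{u}} (I : ∀ i, (Y i).IdealSheafData) (I' : ∀ i, (Y' i).IdealSheafData)
    (f : ∀ i, Y i ⟶ Y' i) (h : ∀ i, ModPair.IsAdmBlowup (I i) (I' i) (f i)) :
    ModPair.IsAdmBlowup (sigmaIdeal Y I) (sigmaIdeal Y' I') (Limits.Sigma.map f) := by
  refine ⟨eq_of_comap_openCover (sigmaOpenCover Y) fun i => ?_, ?_, ?_⟩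
  · change (sigmaIdeal Y I).comap (Sigma.ι Y i) = ((sigmaIdeal Y' I').comap _).comap (Sigma.ι Y i)
    rw [comap_sigmaIdeal, ← Scheme.IdealSheafData.comap_comp, Limits.Sigma.ι_map,
      Scheme.IdealSheafData.comap_comp, comap_sigmaIdeal]
    exact (h i).1
  · refine IsZariskiLocalAtTarget.of_openCover (P := @IsProper) (sigmaOpenCover Y') fun i => ?_
    show IsProper (pullback.snd (Limits.Sigma.map f) (Sigma.ι Y' i))
    rw [← MorphismProperty.cancel_left_of_respectsIso @IsProper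
      (isPullback_sigmaMap f i).flip.isoPullback.hom, IsPullback.isoPullback_hom_snd]
    exact (h i).2.1
  · set W := ModPair.interior (sigmaIdeal Y' I')
    refine (IsZariskiLocalAtTarget.iff_of_iSup_eq_top (P := MorphismProperty.isomorphisms Scheme.{u})
      (fun i : J => W.ι ⁻¹ᵁ (Sigma.ι Y' i).opensRange) ?_).2 fun i => ?_
    · rw [eq_top_iff]
      rintro ⟨x, hx⟩ -
      obtain ⟨j, z, rfl⟩ := (sigmaOpenCover Y').exists_eq x
      exact TopologicalSpace.Opens.mem_iSup.2 ⟨j, z, rfl⟩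
    · refine ((MorphismProperty.isomorphisms Scheme.{u}).arrow_mk_iso_iff
        (morphismRestrictRestrict (Limits.Sigma.map f) W _)).2 ?_
      have e : W.ι ''ᵁ (W.ι ⁻¹ᵁ (Sigma.ι Y' i).opensRange) = Sigma.ι Y' i ''ᵁ ModPair.interior (I' i) := by
        rw [Scheme.Hom.image_preimage_eq_opensRange_inf, Scheme.Opens.opensRange_ι, inf_comm,
          ← Scheme.Hom.image_preimage_eq_opensRange_inf, preimage_interior, comap_sigmaIdeal]
      rw [e]
      haveI := (h i).2.2
      exact isIso_restrict_of_isPullback (isPullback_sigmaMap f i) _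

instance : (ModPair.Pair.admBlowup.{u}).IsMultiplicative where
  id_mem P := S18738.adm_id P.mod
  comp_mem _ _ hf hg := S18738.adm_comp hf hg

lemma admBlowup_of_iso {P Q : ModPair.Pair.{u}} (e : P ≅ Q) : ModPair.Pair.admBlowup e.hom := by
  haveI : IsIso e.hom.hom := ⟨e.inv.hom, congrArg ModPair.Pair.Hom.hom e.hom_inv_id,
    congrArg ModPair.Pair.Hom.hom e.inv_hom_id⟩
  refine ⟨le_antisymm e.hom.cond ?_, inferInstance, inferInstance⟩
  have h := Scheme.IdealSheafData.comap_mono e.hom.hom e.inv.cond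
  dsimp only at h
  rwa [← Scheme.IdealSheafData.comap_comp, show e.hom.hom ≫ e.inv.hom = 𝟙 _ from
    congrArg ModPair.Pair.Hom.hom e.hom_inv_id, Scheme.IdealSheafData.comap_id] at h

instance : (ModPair.Pair.admBlowup.{u}).RespectsIso :=
  MorphismProperty.RespectsIso.mk _ (fun e _ hf => MorphismProperty.comp_mem _ _ _ (admBlowup_of_iso e) hf)
    (fun e _ hf => MorphismProperty.comp_mem _ _ _ hf (admBlowup_of_iso e))

instance (J : Type) : (ModPair.Pair.admBlowup.{u}).IsStableUnderCoproductsOfShape J := by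
  refine MorphismProperty.IsStableUnderCoproductsOfShape.mk _ J fun X₁ X₂ _ _ f hf => ?_
  let e₁ := IsColimit.coconePointUniqueUpToIso (coproductIsCoproduct X₁) (isColimitPairCofan X₁)
  let e₂ := IsColimit.coconePointUniqueUpToIso (coproductIsCoproduct X₂) (isColimitPairCofan X₂)
  have hm := adm_sigmaMap (fun i => (X₁ i).mod) (fun i => (X₂ i).mod) (fun i => (f i).hom) hf
  let m : sigmaPair X₁ ⟶ sigmaPair X₂ := ⟨_, hm.1.le⟩
  refine ((ModPair.Pair.admBlowup.{u}).arrow_mk_iso_iff (Arrow.isoMk e₁ e₂ ?_)).2 (show ModPair.Pair.admBlowup m from hm)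
  refine Sigma.hom_ext _ _ fun i => ?_
  show Sigma.ι X₁ i ≫ e₁.hom ≫ m = Sigma.ι X₁ i ≫ Limits.Sigma.map f ≫ e₂.hom
  have h₁ : Sigma.ι X₁ i ≫ e₁.hom = (pairCofan X₁).inj i :=
    IsColimit.comp_coconePointUniqueUpToIso_hom (coproductIsCoproduct X₁) (isColimitPairCofan X₁) ⟨i⟩
  have h₂ : Sigma.ι X₂ i ≫ e₂.hom = (pairCofan X₂).inj i :=
    IsColimit.comp_coconePointUniqueUpToIso_hom (coproductIsCoproduct X₂) (isColimitPairCofan X₂) ⟨i⟩
  rw [reassoc_of% h₁, Limits.Sigma.ι_map_assoc, h₂]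
  exact ModPair.Pair.Hom.ext (Limits.Sigma.ι_map (fun i => (f i).hom) i)

section General

variable {C : Type*} [Category C] (W : MorphismProperty C)

instance op_stableProducts (J : Type) [HasCoproductsOfShape J C] [W.RespectsIso]
    [W.IsStableUnderCoproductsOfShape J] : W.op.IsStableUnderProductsOfShape J := by
  refine MorphismProperty.IsStableUnderProductsOfShape.mk _ J fun X₁ X₂ _ _ f hf => ?_
  let e₁ := opCoproductIsoProduct fun j => (X₁ j).unop
  let e₂ := opCoproductIsoProduct fun j => (X₂ j).unop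
  have h : W.op (Limits.Sigma.map fun j => (f j).unop).op :=
    MorphismProperty.colimMap _ (fun ⟨j⟩ => hf j)
  refine (W.op.arrow_mk_iso_iff (Arrow.isoMk e₁ e₂ ?_)).1 h
  refine Pi.hom_ext _ _ fun j => ?_
  show (e₁.hom ≫ Limits.Pi.map f) ≫ Pi.π _ j = ((Limits.Sigma.map fun j => (f j).unop).op ≫ e₂.hom) ≫ Pi.π _ j
  rw [Category.assoc, Category.assoc, Limits.Pi.map_π, opCoproductIsoProduct_hom_comp_π_assoc,
    opCoproductIsoProduct_hom_comp_π, ← op_comp, Limits.Sigma.ι_map, op_comp]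
  rfl

theorem localization_binaryCoproducts [W.ContainsIdentities] [W.RespectsIso] [HasBinaryCoproducts C]
    [W.IsStableUnderCoproductsOfShape WalkingPair] :
    HasBinaryCoproducts W.Localization ∧ PreservesColimitsOfShape (Discrete WalkingPair) W.Q := by
  haveI := Localization.hasProductsOfShape W.Q.op W.op WalkingPair
  haveI := Localization.preservesProductsOfShape W.Q.op W.op WalkingPair
  haveI : PreservesLimitsOfShape (Discrete WalkingPair)ᵒᵖ W.Q.op :=
    preservesLimitsOfShape_of_equiv (Discrete.opposite WalkingPair).symm _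
  exact ⟨hasCoproductsOfShape_of_opposite WalkingPair, preservesColimitsOfShape_of_op _ W.Q⟩

end General

end Groth.Agent.H26ModPair
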